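import Groth.Agent.Henselization.Basic
import Groth.Agent.Hensel.Idempotent
import Mathlib.RingTheory.Flat.Equalizer
import Mathlib.RingTheory.Spectrum.Prime.Topology

/-!
# The spectrum of the equalizer of two maps of integral algebras
-/

set_option autoImplicit false
universe u

open TensorProduct PrimeSpectrum

noncomputable section

namespace Groth.Agent.IntCoeqLib

variable {R A B : Type u} [CommRing R] [CommRing A] [CommRing B] [Algebra R A] [Algebra R B]

/-- Two primes are related when they are the two images of one prime. -/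
def Rel (φ₁ φ₂ : A →+* B) (x y : PrimeSpectrum A) : Prop :=
  ∃ r : PrimeSpectrum B, PrimeSpectrum.comap φ₁ r = x ∧ PrimeSpectrum.comap φ₂ r = y

/-- Idempotents with the same values at maximal ideals are equal. -/
theorem idem_eq {T : Type*} [CommRing T] {a b : T} (ha : IsIdempotentElem a)
    (hb : IsIdempotentElem b) (h : ∀ m : Ideal T, m.IsMaximal → (a ∈ m ↔ b ∈ m)) : a = b := by
  refine Hensel.idempotent_eq_of_sub_mem_jacobson ha hb ?_
  rw [Ideal.jacobson, Ideal.mem_sInf]
  rintro m ⟨-, hm⟩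
  have hb' : b * (b - 1) = 0 := by rw [mul_sub, hb.eq, mul_one, sub_self]
  have ha' : a * (a - 1) = 0 := by rw [mul_sub, ha.eq, mul_one, sub_self]
  by_cases hm' : a ∈ m
  · exact sub_mem hm' ((h m hm).mp hm')
  · have h1 := (hm.isPrime.mem_or_mem (ha' ▸ m.zero_mem)).resolve_left hm'
    have h2 := (hm.isPrime.mem_or_mem (hb' ▸ m.zero_mem)).resolve_left
      (fun hh => hm' ((h m hm).mpr hh))
    rw [show a - b = (a - 1) - (b - 1) by ring]
    exact sub_mem h1 h2

variable (H : Type u) [CommRing H] [IsLocalRing H] [Algebra R H] (p : Ideal R) [p.IsPrime]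

/-- Every element of the tensor product is, up to a unit at the prime, an element of the algebra. -/
theorem exists_sub_mem (hs : ∀ h : H, ∃ s r : R, s ∉ p ∧
      algebraMap R H s * h - algebraMap R H r ∈ IsLocalRing.maximalIdeal H)
    {D : Type u} [CommRing D] [Algebra R D] (z : H ⊗[R] D) :
    ∃ (s : R) (d : D), s ∉ p ∧ algebraMap R (H ⊗[R] D) s * z - 1 ⊗ₜ d ∈
      (IsLocalRing.maximalIdeal H).map (algebraMap H (H ⊗[R] D)) := by
  induction z using TensorProduct.induction_on with
  | zero => exact ⟨1, 0, fun h => Ideal.IsPrime.ne_top' (p.eq_top_iff_one.mpr h), by simp⟩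
  | tmul h d =>
    obtain ⟨s, r, hsp, hm⟩ := hs h
    refine ⟨s, r • d, hsp, ?_⟩
    have : algebraMap R (H ⊗[R] D) s * (h ⊗ₜ d) - 1 ⊗ₜ (r • d) =
        algebraMap H (H ⊗[R] D) (algebraMap R H s * h - algebraMap R H r) * (1 ⊗ₜ d) := by
      rw [Algebra.TensorProduct.algebraMap_apply, Algebra.TensorProduct.tmul_mul_tmul, one_mul,
        Algebra.TensorProduct.algebraMap_apply, Algebra.TensorProduct.tmul_mul_tmul, one_mul, mul_one,
        Algebra.algebraMap_self, RingHom.id_apply, sub_tmul, Algebra.algebraMap_eq_smul_one r,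
        ← TensorProduct.smul_tmul]
    rw [this]
    exact Ideal.mul_mem_right _ _ (Ideal.mem_map_of_mem _ hm)
  | add z w hz hw =>
    obtain ⟨s, d, hs, hd⟩ := hz
    obtain ⟨s', d', hs', hd'⟩ := hw
    refine ⟨s * s', s' • d + s • d', fun h => (Ideal.IsPrime.mem_or_mem inferInstance h).elim hs hs', ?_⟩
    have hsm : ∀ (c : R) (e : D), (1 : H) ⊗ₜ[R] (c • e) = algebraMap R (H ⊗[R] D) c * (1 ⊗ₜ e) := by
      intro c e
      rw [TensorProduct.tmul_smul, Algebra.smul_def]
    have : algebraMap R (H ⊗[R] D) (s * s') * (z + w) - 1 ⊗ₜ (s' • d + s • d') =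
        algebraMap R (H ⊗[R] D) s' * (algebraMap R (H ⊗[R] D) s * z - 1 ⊗ₜ d) +
        algebraMap R (H ⊗[R] D) s * (algebraMap R (H ⊗[R] D) s' * w - 1 ⊗ₜ d') := by
      rw [TensorProduct.tmul_add, hsm, hsm, map_mul]; ring
    rw [this]
    exact add_mem (Ideal.mul_mem_left _ _ hd) (Ideal.mul_mem_left _ _ hd')

/-- A prime over the closed point is determined by its trace on the algebra. -/
theorem prime_le (hcomap : (IsLocalRing.maximalIdeal H).comap (algebraMap R H) = p)
    (hs : ∀ h : H, ∃ s r : R, s ∉ p ∧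
      algebraMap R H s * h - algebraMap R H r ∈ IsLocalRing.maximalIdeal H)
    {D : Type u} [CommRing D] [Algebra R D] (P P' : Ideal (H ⊗[R] D)) [P'.IsPrime]
    (hP : P.comap (algebraMap H (H ⊗[R] D)) = IsLocalRing.maximalIdeal H)
    (hP' : P'.comap (algebraMap H (H ⊗[R] D)) = IsLocalRing.maximalIdeal H)
    (h : P.comap (Algebra.TensorProduct.includeRight : D →ₐ[R] H ⊗[R] D).toRingHom ≤
      P'.comap (Algebra.TensorProduct.includeRight : D →ₐ[R] H ⊗[R] D).toRingHom) : P ≤ P' := by
  intro z hz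
  obtain ⟨s, d, hsp, hd⟩ := exists_sub_mem H p hs z
  have hd1 : (1 : H) ⊗ₜ[R] d ∈ P := by
    have := sub_mem (P.mul_mem_left (algebraMap R _ s) hz) (Ideal.map_le_iff_le_comap.mpr hP.ge hd)
    simpa using this
  have hd2 : (1 : H) ⊗ₜ[R] d ∈ P' := h hd1
  have h3 := add_mem hd2 (Ideal.map_le_iff_le_comap.mpr hP'.ge hd)
  rw [add_sub_cancel] at h3
  refine ((Ideal.IsPrime.mem_or_mem inferInstance h3).resolve_left fun hs' => hsp ?_)
  rw [← hcomap, ← hP']
  rwa [Ideal.mem_comap, Ideal.mem_comap, ← IsScalarTower.algebraMap_apply]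

variable [Algebra.IsIntegral R A] [Algebra.IsIntegral R B] (φ₁ φ₂ : A →ₐ[R] B)

/-- The fundamental step, after a flat henselian base change. -/
theorem rel_of_henselian [HenselianLocalRing H] [Module.Flat R H]
    (hcomap : (IsLocalRing.maximalIdeal H).comap (algebraMap R H) = p)
    (hs : ∀ h : H, ∃ s r : R, s ∉ p ∧
      algebraMap R H s * h - algebraMap R H r ∈ IsLocalRing.maximalIdeal H)
    (hlift : ∀ c : PrimeSpectrum A, c.asIdeal.comap (algebraMap R A) = p →
      ∃ P : Ideal (H ⊗[R] A), P.IsPrime ∧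
        P.comap (algebraMap H (H ⊗[R] A)) = IsLocalRing.maximalIdeal H ∧
        P.comap (Algebra.TensorProduct.includeRight : A →ₐ[R] H ⊗[R] A).toRingHom = c.asIdeal)
    (heqv : Equivalence (Rel φ₁.toRingHom φ₂.toRingHom))
    (hfin : {c : PrimeSpectrum A | c.asIdeal.comap (algebraMap R A) = p}.Finite)
    (x x' : PrimeSpectrum A) (hx : x.asIdeal.comap (algebraMap R A) = p)
    (h : x.asIdeal.comap (AlgHom.equalizer φ₁ φ₂).val.toRingHom =
      x'.asIdeal.comap (AlgHom.equalizer φ₁ φ₂).val.toRingHom) :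
    Rel φ₁.toRingHom φ₂.toRingHom x x' := by
  classical
  let m := IsLocalRing.maximalIdeal H
  let J : Ideal (H ⊗[R] A) := m.map (algebraMap H (H ⊗[R] A))
  let incA : A →+* H ⊗[R] A := (Algebra.TensorProduct.includeRight : A →ₐ[R] H ⊗[R] A).toRingHom
  let incB : B →+* H ⊗[R] B := (Algebra.TensorProduct.includeRight : B →ₐ[R] H ⊗[R] B).toRingHom
  have hover : ∀ P : Ideal (H ⊗[R] A), P.comap (algebraMap H (H ⊗[R] A)) = m →
      (P.comap incA).comap (algebraMap R A) = p := by
    intro P hP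
    rw [Ideal.comap_comap, ← hcomap]
    show P.comap _ = m.comap _
    rw [← hP, Ideal.comap_comap]
    congr 1
    rw [← IsScalarTower.algebraMap_eq R H (H ⊗[R] A)]
    exact (Algebra.TensorProduct.includeRight : A →ₐ[R] H ⊗[R] A).comp_algebraMap
  -- primes of the closed fibre
  have hQ : ∀ Q : PrimeSpectrum ((H ⊗[R] A) ⧸ J),
      (Q.asIdeal.comap (Ideal.Quotient.mk J)).comap (algebraMap H (H ⊗[R] A)) = m := by
    intro Q
    refine ((IsLocalRing.maximalIdeal.isMaximal H).eq_of_le ?_ ?_).symm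
    · exact Ideal.IsPrime.ne_top'
    · refine Ideal.map_le_iff_le_comap.mp ?_
      intro z hz
      rw [Ideal.mem_comap, Ideal.Quotient.eq_zero_iff_mem.mpr hz]
      exact zero_mem _
  let τ : PrimeSpectrum ((H ⊗[R] A) ⧸ J) → PrimeSpectrum A :=
    fun Q => PrimeSpectrum.comap ((Ideal.Quotient.mk J).comp incA) Q
  have hτ : Function.Injective τ := by
    intro Q Q' hQQ
    have e : (Q.asIdeal.comap (Ideal.Quotient.mk J)).comap incA =
        (Q'.asIdeal.comap (Ideal.Quotient.mk J)).comap incA := by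
      have := congrArg PrimeSpectrum.asIdeal hQQ
      rwa [PrimeSpectrum.comap_asIdeal, PrimeSpectrum.comap_asIdeal, ← Ideal.comap_comap,
        ← Ideal.comap_comap] at this
    refine PrimeSpectrum.ext (Ideal.comap_injective_of_surjective _ Ideal.Quotient.mk_surjective ?_)
    exact le_antisymm (prime_le H p hcomap hs _ _ (hQ Q) (hQ Q') e.le)
      (prime_le H p hcomap hs _ _ (hQ Q') (hQ Q) e.ge)
  have hτF : ∀ Q, (τ Q).asIdeal.comap (algebraMap R A) = p := fun Q => hover _ (hQ Q)
  haveI : Finite (PrimeSpectrum ((H ⊗[R] A) ⧸ J)) := by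
    haveI : Finite {c : PrimeSpectrum A // c.asIdeal.comap (algebraMap R A) = p} := hfin.to_subtype
    exact Finite.of_injective (fun Q => (⟨τ Q, hτF Q⟩ : {c : PrimeSpectrum A // c.asIdeal.comap (algebraMap R A) = p}))
      fun Q Q' e => hτ (congrArg Subtype.val e)
  have hclosed : ∀ T : Set (PrimeSpectrum ((H ⊗[R] A) ⧸ J)), IsClosed T := by
    intro T
    rw [← Set.biUnion_of_singleton T]
    refine (Set.toFinite T).isClosed_biUnion fun Q _ => (PrimeSpectrum.isClosed_singleton_iff_isMaximal Q).mpr ?_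
    haveI := Ideal.isMaximal_of_isIntegral_of_isMaximal_comap (R := H)
      (Q.asIdeal.comap (Ideal.Quotient.mk J)) ((hQ Q).symm ▸ IsLocalRing.maximalIdeal.isMaximal H)
    rw [← Ideal.map_comap_of_surjective _ Ideal.Quotient.mk_surjective Q.asIdeal]
    exact (Ideal.map_eq_top_or_isMaximal_of_surjective _ Ideal.Quotient.mk_surjective inferInstance).resolve_left
      (by rw [Ideal.map_comap_of_surjective _ Ideal.Quotient.mk_surjective]; exact Q.2.ne_top)
  let K : Set (PrimeSpectrum ((H ⊗[R] A) ⧸ J)) := {Q | Rel φ₁.toRingHom φ₂.toRingHom x (τ Q)}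
  obtain ⟨e₀, he₀, hKe⟩ := PrimeSpectrum.isClopen_iff.mp
    (⟨hclosed K, isClosed_compl_iff.mp (hclosed Kᶜ)⟩ : IsClopen K)
  obtain ⟨e, he, hee⟩ := Hensel.surjOn_idempotent (I := m) (H ⊗[R] A) he₀
  -- the idempotent detects the class of `x`
  have hval : ∀ P : Ideal (H ⊗[R] A), ∀ [P.IsPrime], P.comap (algebraMap H (H ⊗[R] A)) = m →
      ∀ c : PrimeSpectrum A, P.comap incA = c.asIdeal →
      (e ∉ P ↔ Rel φ₁.toRingHom φ₂.toRingHom x c) := by
    intro P _ hP c hc
    have hJP : J ≤ P := Ideal.map_le_iff_le_comap.mpr hP.ge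
    have hmap : (P.map (Ideal.Quotient.mk J)).comap (Ideal.Quotient.mk J) = P := by
      rw [Ideal.comap_map_of_surjective _ Ideal.Quotient.mk_surjective, ← RingHom.ker_eq_comap_bot,
        Ideal.mk_ker, sup_eq_left]
      exact hJP
    haveI : (P.map (Ideal.Quotient.mk J)).IsPrime :=
      Ideal.map_isPrime_of_surjective Ideal.Quotient.mk_surjective (by rwa [Ideal.mk_ker])
    let Q : PrimeSpectrum ((H ⊗[R] A) ⧸ J) := ⟨P.map (Ideal.Quotient.mk J), inferInstance⟩
    have hτQ : τ Q = c := by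
      apply PrimeSpectrum.ext
      rw [PrimeSpectrum.comap_asIdeal, ← Ideal.comap_comap, hmap, hc]
    have h1 : Q ∈ (basicOpen e₀ : Set _) ↔ e ∉ P := by
      show e₀ ∉ P.map (Ideal.Quotient.mk J) ↔ _
      rw [← hee, ← Ideal.mem_comap, hmap]
    rw [← h1, ← hKe, ← hτQ]
    exact Iff.rfl
  -- it lies in the equalizer
  let ψ₁ := Algebra.TensorProduct.map (AlgHom.id H H) φ₁
  let ψ₂ := Algebra.TensorProduct.map (AlgHom.id H H) φ₂
  have heq : ψ₁ e = ψ₂ e := by
    refine idem_eq (he.map _) (he.map _) fun r hr => ?_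
    have hrm : r.comap (algebraMap H (H ⊗[R] B)) = m :=
      IsLocalRing.eq_maximalIdeal (Ideal.isMaximal_comap_of_isIntegral_of_isMaximal r)
    have key : ∀ φ : A →ₐ[R] B, (Algebra.TensorProduct.map (AlgHom.id H H) φ e ∉ r ↔
        Rel φ₁.toRingHom φ₂.toRingHom x
          (PrimeSpectrum.comap φ.toRingHom ⟨r.comap incB, Ideal.IsPrime.comap _⟩)) := by
      intro φ
      refine hval (r.comap (Algebra.TensorProduct.map (AlgHom.id H H) φ).toRingHom) ?_ _ ?_
      · rw [Ideal.comap_comap, ← hrm]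
        congr 1
        exact (Algebra.TensorProduct.map (AlgHom.id H H) φ).comp_algebraMap
      · show _ = (r.comap incB).comap φ.toRingHom
        rw [Ideal.comap_comap, Ideal.comap_comap]
        congr 1
    rw [← not_iff_not, key φ₁, key φ₂]
    exact ⟨fun h' => heqv.trans h' ⟨_, rfl, rfl⟩,
      fun h' => heqv.trans h' (heqv.symm ⟨_, rfl, rfl⟩)⟩
  obtain ⟨z, hz⟩ := (AlgHom.tensorEqualizerEquiv H H φ₁ φ₂).surjective ⟨e, heq⟩
  have hze : Algebra.TensorProduct.map (AlgHom.id H H) (AlgHom.equalizer φ₁ φ₂).val z = e := by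
    rw [← AlgHom.coe_tensorEqualizer, ← AlgHom.tensorEqualizerEquiv_apply, hz]
  let C := AlgHom.equalizer φ₁ φ₂
  have hC : ∀ c : PrimeSpectrum A, (c.asIdeal.comap C.val.toRingHom).comap (algebraMap R C) =
      c.asIdeal.comap (algebraMap R A) := fun c => by
    rw [Ideal.comap_comap]
    congr 1
  have hx' : x'.asIdeal.comap (algebraMap R A) = p := by rw [← hC, ← h, hC, hx]
  obtain ⟨P, hPp, hPm, hPx⟩ := hlift x hx
  obtain ⟨P', hPp', hPm', hPx'⟩ := hlift x' hx'
  let μ := Algebra.TensorProduct.map (AlgHom.id H H) C.val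
  have hcm : ∀ P : Ideal (H ⊗[R] A), P.comap (algebraMap H (H ⊗[R] A)) = m →
      (P.comap μ.toRingHom).comap (algebraMap H (H ⊗[R] C)) = m := fun P hP => by
    rw [Ideal.comap_comap, ← hP]
    congr 1
  have hcr : ∀ (P : Ideal (H ⊗[R] A)) (c : PrimeSpectrum A), P.comap incA = c.asIdeal →
      (P.comap μ.toRingHom).comap (Algebra.TensorProduct.includeRight : C →ₐ[R] H ⊗[R] C).toRingHom =
        c.asIdeal.comap C.val.toRingHom := fun P c hc => by
    rw [← hc, Ideal.comap_comap, Ideal.comap_comap]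
    congr 1
  have hle : P'.comap μ.toRingHom ≤ P.comap μ.toRingHom :=
    prime_le H p hcomap hs _ _ (hcm P' hPm') (hcm P hPm)
      (by rw [hcr P' x' hPx', hcr P x hPx, h])
  refine (hval P' hPm' x' hPx').mp fun heP' => ?_
  refine (hval P hPm x hPx).mpr (heqv.refl x) ?_
  rw [← hze] at heP' ⊢
  exact hle heP'

/-- Points of an equalizer of integral algebras with finite fibres: two primes with the same image are related. -/
theorem rel_of_comap_eq (heqv : Equivalence (Rel φ₁.toRingHom φ₂.toRingHom))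
    (hfin : ∀ q : PrimeSpectrum R, (PrimeSpectrum.comap (algebraMap R A) ⁻¹' {q}).Finite)
    (x x' : PrimeSpectrum A)
    (h : x.asIdeal.comap (AlgHom.equalizer φ₁ φ₂).val.toRingHom =
      x'.asIdeal.comap (AlgHom.equalizer φ₁ φ₂).val.toRingHom) :
    Rel φ₁.toRingHom φ₂.toRingHom x x' := by
  let p : Ideal R := x.asIdeal.comap (algebraMap R A)
  haveI : p.IsPrime := Ideal.IsPrime.comap _
  let Rp := Localization.AtPrime p
  let H := Henselization.HenselizationRing Rp
  letI : Algebra R H := ((algebraMap Rp H).comp (algebraMap R Rp)).toAlgebra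
  haveI : IsScalarTower R Rp H := IsScalarTower.of_algebraMap_eq' rfl
  haveI : Module.Flat R Rp := IsLocalization.flat Rp p.primeCompl
  haveI : Module.Flat R H := Module.Flat.trans R Rp H
  let ε : H →+* p.ResidueField := (Henselization.εH Rp (IsLocalRing.ResidueField Rp)).toRingHom
  have hεm : ∀ a : H, a ∈ IsLocalRing.maximalIdeal H ↔ ε a = 0 := fun a =>
    Henselization.mem_maximalIdeal_iff a
  have hεR : ∀ r : R, ε (algebraMap R H r) = algebraMap R p.ResidueField r := fun r => by
    show Henselization.εH Rp _ (algebraMap Rp H (algebraMap R Rp r)) = _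
    rw [AlgHom.commutes]
    rfl
  refine rel_of_henselian H p φ₁ φ₂ ?_ ?_ ?_ heqv ?_ x x' rfl h
  · ext r
    rw [Ideal.mem_comap, hεm, hεR]
    exact Ideal.algebraMap_residueField_eq_zero
  · intro a
    obtain ⟨t, ht⟩ := IsLocalRing.residue_surjective (ε a)
    obtain ⟨⟨r, s⟩, hrs⟩ := IsLocalization.surj p.primeCompl t
    refine ⟨s, r, s.2, ?_⟩
    rw [hεm, map_sub, map_mul, hεR, hεR, ← ht, sub_eq_zero]
    show IsLocalRing.residue Rp (algebraMap R Rp s) * IsLocalRing.residue Rp t =
      IsLocalRing.residue Rp (algebraMap R Rp r)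
    rw [← map_mul, mul_comm, hrs]
  · intro c hc
    haveI := c.2
    let r : p.ResidueField →+* c.asIdeal.ResidueField :=
      Ideal.ResidueField.map p c.asIdeal (algebraMap R A) hc.symm
    have hr : ∀ a : R, r (algebraMap R p.ResidueField a) = algebraMap R c.asIdeal.ResidueField a := fun a => by
      rw [Ideal.ResidueField.map_algebraMap, ← IsScalarTower.algebraMap_apply]
    let εc : H →ₐ[R] c.asIdeal.ResidueField :=
      { r.comp ε with commutes' := fun a => (congrArg r (hεR a)).trans (hr a) }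
    let Φ := Algebra.TensorProduct.productMap εc (IsScalarTower.toAlgHom R A c.asIdeal.ResidueField)
    refine ⟨RingHom.ker Φ.toRingHom, RingHom.ker_isPrime _, ?_, ?_⟩
    · ext a
      rw [Ideal.mem_comap, RingHom.mem_ker, hεm, Algebra.TensorProduct.algebraMap_apply,
        Algebra.algebraMap_self, RingHom.id_apply]
      show Φ (a ⊗ₜ 1) = 0 ↔ _
      rw [Algebra.TensorProduct.productMap_apply_tmul, map_one, mul_one]
      exact map_eq_zero r
    · ext a
      rw [Ideal.mem_comap, RingHom.mem_ker]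
      show Φ ((1 : H) ⊗ₜ a) = 0 ↔ _
      rw [Algebra.TensorProduct.productMap_apply_tmul, map_one, one_mul]
      exact Ideal.algebraMap_residueField_eq_zero
  · refine (hfin ⟨p, inferInstance⟩).subset fun c hc => PrimeSpectrum.ext hc

end Groth.Agent.IntCoeqLib
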