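import Mathlib.AlgebraicGeometry.AffineScheme
import Mathlib.AlgebraicGeometry.Scheme
import Mathlib.Geometry.RingedSpace.SheafedSpace
import Mathlib.Topology.Sheaves.SheafCondition.UniqueGluing
import Mathlib.RingTheory.Localization.Away.Basic
import Mathlib.CategoryTheory.Limits.Shapes.Equalizers

/-!
# Coequalizers of ringed spaces, recognised from the points and from sections over a basis
-/

set_option autoImplicit false
set_option backward.isDefEq.respectTransparency false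

universe u

open CategoryTheory CategoryTheory.Limits AlgebraicGeometry TopologicalSpace Opposite

noncomputable section

namespace Groth.Agent.IntCoeqLib

variable {R X Y : Scheme.{u}} {p₁ p₂ : R ⟶ X} {q : X ⟶ Y} (w : p₁ ≫ q = p₂ ≫ q)

include w in
theorem trace₂ (V : Y.Opens) : (p₁ ≫ q) ⁻¹ᵁ V ≤ p₂ ⁻¹ᵁ (q ⁻¹ᵁ V) := by rw [w]; exact le_rfl

/-- A section upstairs has equal pullbacks along the two maps. -/
def Balanced (V : Y.Opens) (a : Γ(X, q ⁻¹ᵁ V)) : Prop :=
  p₁.appLE (q ⁻¹ᵁ V) ((p₁ ≫ q) ⁻¹ᵁ V) le_rfl a = p₂.appLE (q ⁻¹ᵁ V) ((p₁ ≫ q) ⁻¹ᵁ V) (trace₂ w V) a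

/-- The sections below are exactly the balanced sections above. -/
def SecOK (V : Y.Opens) : Prop :=
  Function.Injective (q.app V) ∧ ∀ a, Balanced w V a → ∃ b, q.app V b = a

theorem Balanced.res {V W : Y.Opens} (h : W ≤ V) {a : Γ(X, q ⁻¹ᵁ V)} (ha : Balanced w V a) :
    Balanced w W (X.presheaf.map (homOfLE (q.preimage_mono h)).op a) := by
  unfold Balanced at ha ⊢
  rw [← CommRingCat.comp_apply, ← CommRingCat.comp_apply, Scheme.Hom.map_appLE, Scheme.Hom.map_appLE]
  have e : ∀ (p : R ⟶ X) (l : (p₁ ≫ q) ⁻¹ᵁ V ≤ p ⁻¹ᵁ (q ⁻¹ᵁ V)),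
      p.appLE (q ⁻¹ᵁ V) ((p₁ ≫ q) ⁻¹ᵁ W) (le_trans ((p₁ ≫ q).preimage_mono h) l) a =
      R.presheaf.map (homOfLE ((p₁ ≫ q).preimage_mono h)).op (p.appLE (q ⁻¹ᵁ V) ((p₁ ≫ q) ⁻¹ᵁ V) l a) := by
    intro p l
    rw [← CommRingCat.comp_apply, Scheme.Hom.appLE_map]
  exact (e p₁ le_rfl).trans ((congrArg _ ha).trans (e p₂ (trace₂ w V)).symm)

theorem app_res {V W : Y.Opens} (h : W ≤ V) (b : Γ(Y, V)) :
    q.app W (Y.presheaf.map (homOfLE h).op b) = X.presheaf.map (homOfLE (q.preimage_mono h)).op (q.app V b) := by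
  rw [← CommRingCat.comp_apply, q.naturality (homOfLE h).op]
  rfl

variable (𝔅 : Set Y.Opens) (h𝔅 : ∀ (V : Y.Opens) (y : Y), y ∈ V → ∃ W ∈ 𝔅, y ∈ W ∧ W ≤ V)
  (hOK : ∀ W ∈ 𝔅, SecOK w W)

include h𝔅 hOK

theorem inj_of_basis (V : Y.Opens) : Function.Injective (q.app V) := by
  intro s t hst
  have h : ∀ y : V, ∃ W ∈ 𝔅, (y : Y) ∈ W ∧ W ≤ V := fun y => h𝔅 V y y.2
  choose W hWB hyW hWV using h
  refine TopCat.Sheaf.eq_of_locally_eq' (F := Y.sheaf) W V (fun y => homOfLE (hWV y))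
    (fun z hz => Opens.mem_iSup.mpr ⟨⟨z, hz⟩, hyW ⟨z, hz⟩⟩) s t fun y => ?_
  apply (hOK (W y) (hWB y)).1
  exact (app_res (hWV y) s).trans ((congrArg _ hst).trans (app_res (hWV y) t).symm)

theorem secOK_of_basis (V : Y.Opens) : SecOK w V := by
  refine ⟨inj_of_basis w 𝔅 h𝔅 hOK V, fun a ha => ?_⟩
  have h : ∀ y : V, ∃ W ∈ 𝔅, (y : Y) ∈ W ∧ W ≤ V := fun y => h𝔅 V y y.2
  choose W hWB hyW hWV using h
  choose b hb using fun y => (hOK (W y) (hWB y)).2 _ (ha.res w (hWV y))
  have hcov : V ≤ iSup W := fun z hz => Opens.mem_iSup.mpr ⟨⟨z, hz⟩, hyW ⟨z, hz⟩⟩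
  have hcompat : TopCat.Presheaf.IsCompatible Y.sheaf.obj W b := by
    intro i j
    apply inj_of_basis w 𝔅 h𝔅 hOK (W i ⊓ W j)
    refine (app_res inf_le_left (b i)).trans (Eq.trans ?_ (app_res inf_le_right (b j)).symm)
    rw [hb, hb, ← CommRingCat.comp_apply, ← CommRingCat.comp_apply, ← Functor.map_comp, ← Functor.map_comp]
    rfl
  obtain ⟨s, hs, -⟩ := TopCat.Sheaf.existsUnique_gluing' Y.sheaf W V (fun y => homOfLE (hWV y)) hcov b hcompat
  refine ⟨s, ?_⟩
  refine TopCat.Sheaf.eq_of_locally_eq' (F := X.sheaf) (fun y => q ⁻¹ᵁ (W y)) _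
    (fun y => homOfLE (q.preimage_mono (hWV y))) ?_ _ _ fun y => ?_
  · intro z hz
    exact Opens.mem_iSup.mpr ⟨⟨q z, hz⟩, hyW ⟨q z, hz⟩⟩
  · refine ((app_res (hWV y) s).symm.trans ?_).trans (hb y)
    exact congrArg _ (hs y)

omit h𝔅 hOK

variable (hquot : Topology.IsQuotientMap q)
  (hrel : ∀ x x' : X, q x = q x' → ∃ r : R, p₁ r = x ∧ p₂ r = x')
  (hsec : ∀ V : Y.Opens, SecOK w V)

include hquot hrel hsec

local notation "𝐅" => Scheme.forgetToLocallyRingedSpace ⋙ LocallyRingedSpace.forgetToSheafedSpace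

omit hrel in
theorem ringed_hom_ext {T : SheafedSpace CommRingCat.{u}} (m₁ m₂ : (𝐅).obj Y ⟶ T)
    (h : (𝐅).map q ≫ m₁ = (𝐅).map q ≫ m₂) : m₁ = m₂ := by
  obtain ⟨⟨β₁, c₁⟩⟩ := m₁
  obtain ⟨⟨β₂, c₂⟩⟩ := m₂
  have hβ : β₁ = β₂ := by
    ext y
    obtain ⟨x, rfl⟩ := hquot.surjective y
    exact congrArg (fun m => m.hom.base x) h
  subst hβ
  congr 2
  refine NatTrans.ext (funext fun V => ?_)
  refine CommRingCat.hom_ext (RingHom.ext fun r => (hsec ((Opens.map β₁).obj V.unop)).1 ?_)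
  have h := PresheafedSpace.congr_app (congrArg InducedCategory.Hom.hom h) V
  simp only [eqToHom_refl, CategoryTheory.Functor.map_id, Category.comp_id] at h
  exact congrArg (fun φ => φ.hom r) h

theorem exists_desc {T : SheafedSpace CommRingCat.{u}} {u : (𝐅).obj X ⟶ T}
    (hu : (𝐅).map p₁ ≫ u = (𝐅).map p₂ ≫ u) : ∃ m : (𝐅).obj Y ⟶ T, (𝐅).map q ≫ m = u := by
  let f : Y → T := fun y => u.hom.base (hquot.surjective y).choose
  have hf : ∀ x, f (q x) = u.hom.base x := by
    intro x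
    obtain ⟨r, h1, h2⟩ := hrel _ x (hquot.surjective (q x)).choose_spec
    have := congrArg (fun m => m.hom.base r) hu
    show u.hom.base _ = _
    rw [← h1, ← h2]
    exact this
  have hfc : Continuous f := by
    rw [hquot.continuous_iff, show f ∘ q = u.hom.base from funext hf]
    exact u.hom.base.hom.continuous
  let β : ((𝐅).obj Y).toPresheafedSpace.carrier ⟶ T.toPresheafedSpace.carrier := TopCat.ofHom ⟨f, hfc⟩
  have hU : ∀ V, q ⁻¹ᵁ ((Opens.map β).obj V) = (Opens.map u.hom.base).obj V := fun V =>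
    Opens.ext (Set.ext fun x => show f (q x) ∈ (V : Set T) ↔ _ by rw [hf]; rfl)
  let uA : ∀ V, T.presheaf.obj (op V) ⟶ Γ(X, q ⁻¹ᵁ ((Opens.map β).obj V)) := fun V =>
    u.hom.c.app (op V) ≫ X.presheaf.map (eqToHom (hU V)).op
  have hbalM : ∀ V, uA V ≫ p₁.appLE _ ((p₁ ≫ q) ⁻¹ᵁ ((Opens.map β).obj V)) le_rfl =
      uA V ≫ p₂.appLE _ ((p₁ ≫ q) ⁻¹ᵁ ((Opens.map β).obj V)) (trace₂ w _) := by
    intro V
    have h : u.hom.c.app (op V) ≫ p₁.app ((Opens.map u.hom.base).obj V) =
        (u.hom.c.app (op V) ≫ p₂.app ((Opens.map u.hom.base).obj V)) ≫ R.presheaf.map (eqToHom _) :=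
      PresheafedSpace.congr_app (congrArg InducedCategory.Hom.hom hu) (op V)
    simp only [uA, Category.assoc, Scheme.Hom.map_appLE]
    simp only [Scheme.Hom.appLE]
    rw [← Category.assoc, h]
    simp only [Category.assoc]
    exact congrArg (fun m => u.hom.c.app (op V) ≫ m) (congrArg (fun m => p₂.app _ ≫ m)
      ((R.presheaf.map_comp _ _).symm.trans (congrArg R.presheaf.map (Subsingleton.elim _ _))))
  choose c hc using fun V r => (hsec ((Opens.map β).obj V)).2 (uA V r)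
    (show Balanced w _ (uA V r) from RingHom.congr_fun (congrArg CommRingCat.Hom.hom (hbalM V)) r)
  let cH : ∀ V, T.presheaf.obj (op V) ⟶ Γ(Y, (Opens.map β).obj V) := fun V => CommRingCat.ofHom
        { toFun := c V
          map_one' := (hsec _).1 (by simp only [hc, map_one])
          map_mul' := fun r r' => (hsec _).1 (by simp only [hc, map_mul])
          map_zero' := (hsec _).1 (by simp only [hc, map_zero])
          map_add' := fun r r' => (hsec _).1 (by simp only [hc, map_add]) }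
  have hcA : ∀ V, cH V ≫ q.app _ = uA V := fun V => CommRingCat.hom_ext (RingHom.ext (hc V))
  let nat : T.presheaf ⟶ β _* ((𝐅).obj Y).presheaf :=
    { app := fun V => cH V.unop
      naturality := fun V V' g => by
        have natA : (T.presheaf.map g ≫ cH V'.unop) ≫ q.app _ =
            (cH V.unop ≫ Y.presheaf.map ((Opens.map β).map g.unop).op) ≫ q.app _ := by
          refine (Category.assoc _ _ _).trans ((congrArg (T.presheaf.map g ≫ ·) (hcA V'.unop)).trans ?_)
          refine Eq.trans ?_ ((Category.assoc _ _ _).trans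
            (congrArg (cH V.unop ≫ ·) (q.naturality ((Opens.map β).map g.unop).op))).symm
          refine Eq.trans ?_ ((congrArg (· ≫ X.presheaf.map _) (hcA V.unop)).symm.trans (Category.assoc _ _ _))
          refine Eq.trans ?_ (Category.assoc _ _ _).symm
          refine ((Category.assoc _ _ _).symm.trans (congrArg (· ≫ _) (u.hom.c.naturality g))).trans ?_
          refine (Category.assoc _ _ _).trans (congrArg (fun m => u.hom.c.app V ≫ m) ?_)
          exact (X.presheaf.map_comp _ _).symm.trans ((congrArg X.presheaf.map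
            (Subsingleton.elim _ _)).trans (X.presheaf.map_comp _ _))
        exact CommRingCat.hom_ext (RingHom.ext fun r => (hsec _).1 (congrArg (fun m => m.hom r) natA)) }
  refine ⟨InducedCategory.homMk ⟨β, nat⟩, ?_⟩
  refine InducedCategory.hom_ext (PresheafedSpace.ext _ _ (TopCat.ext fun x => hf x) ?_)
  refine NatTrans.ext (funext fun V => ?_)
  show (cH V.unop ≫ q.app _) ≫ X.presheaf.map _ = u.hom.c.app V
  rw [hcA]
  simp only [uA, Category.assoc]
  refine (congrArg (fun m => u.hom.c.app V ≫ m) ((X.presheaf.map_comp _ _).symm.trans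
    ((congrArg X.presheaf.map (Subsingleton.elim _ (𝟙 _))).trans (X.presheaf.map_id _)))).trans
    (Category.comp_id _)

/-- The coequalizer in ringed spaces. -/
theorem isColimit_cofork (w' : (𝐅).map p₁ ≫ (𝐅).map q = (𝐅).map p₂ ≫ (𝐅).map q) :
    Nonempty (IsColimit (Cofork.ofπ ((𝐅).map q) w')) :=
  ⟨Cofork.IsColimit.mk _ (fun s => (exists_desc w hquot hrel hsec s.condition).choose)
    (fun s => (exists_desc w hquot hrel hsec s.condition).choose_spec)
    (fun s m hm => ringed_hom_ext w hquot hsec _ _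
      (hm.trans (exists_desc w hquot hrel hsec s.condition).choose_spec.symm))⟩

end Groth.Agent.IntCoeqLib
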