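import Groth.Prelude.Def_RelSpec
import Groth.Prelude.Def_AffAlg
import Mathlib.Topology.Sheaves.SheafCondition.UniqueGluing
import Mathlib.AlgebraicGeometry.Morphisms.Affine

/-!
# The equalizer of two maps of direct image algebras
-/

set_option autoImplicit false
set_option backward.isDefEq.respectTransparency false

universe u

open CategoryTheory CategoryTheory.Limits AlgebraicGeometry TopologicalSpace Opposite

noncomputable section

namespace Groth.Agent.IntCoeqLib

/-- Localization of an equalizer of rings. -/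
theorem isLocalization_eqLocus {A A' B B' C C' : Type u} [CommRing A] [CommRing A'] [CommRing B]
    [CommRing B'] [CommRing C] [CommRing C'] [Algebra A A'] [Algebra B B'] [Algebra C C']
    (φ₁ φ₂ : A →+* B) (φ₁' φ₂' : A' →+* B') (ι : C →+* A) (ι' : C' →+* A') (c : C)
    [IsLocalization.Away (ι c) A'] [IsLocalization.Away (φ₁ (ι c)) B']
    (hι : Function.Injective ι') (h0 : Function.Injective ι)
    (hCA : ∀ x, ι' (algebraMap C C' x) = algebraMap A A' (ι x))
    (h₁ : ∀ a, φ₁' (algebraMap A A' a) = algebraMap B B' (φ₁ a))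
    (h₂ : ∀ a, φ₂' (algebraMap A A' a) = algebraMap B B' (φ₂ a))
    (hrange : ∀ a, φ₁ a = φ₂ a ↔ ∃ x, ι x = a) (hrange' : ∀ a, φ₁' a = φ₂' a ↔ ∃ x, ι' x = a) :
    IsLocalization.Away c C' := by
  have hc : φ₁ (ι c) = φ₂ (ι c) := (hrange _).mpr ⟨c, rfl⟩
  rw [IsLocalization.Away, isLocalization_iff]
  refine ⟨?_, fun z => ?_, fun {x y} hxy => ?_⟩
  · rintro ⟨_, n, rfl⟩
    show IsUnit (algebraMap C C' (c ^ n))
    rw [map_pow]
    refine IsUnit.pow n ?_
    obtain ⟨v, hv⟩ := (IsLocalization.Away.algebraMap_isUnit (S := A') (ι c)).exists_right_inv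
    have hv' : φ₁' v = φ₂' v := by
      have hu : IsUnit (algebraMap B B' (φ₁ (ι c))) := IsLocalization.Away.algebraMap_isUnit _
      refine hu.mul_left_cancel ?_
      conv_lhs => rw [← h₁, ← map_mul, hv, map_one]
      rw [hc, ← h₂, ← map_mul, hv, map_one]
    obtain ⟨v', rfl⟩ := (hrange' v).mp hv'
    refine isUnit_iff_exists_inv.mpr ⟨v', hι ?_⟩
    rw [map_mul, hCA, hv, map_one]
  · obtain ⟨⟨a, ⟨_, n, rfl⟩⟩, ha⟩ := IsLocalization.surj (Submonoid.powers (ι c)) (ι' z)
    dsimp only at ha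
    have h12 : algebraMap B B' (φ₁ a) = algebraMap B B' (φ₂ a) := by
      rw [← h₁, ← h₂, ← ha, map_mul, map_mul, (hrange' _).mpr ⟨z, rfl⟩, h₁, h₂]
      simp only [map_pow, hc]
    obtain ⟨⟨_, m, rfl⟩, hm⟩ := (IsLocalization.eq_iff_exists (Submonoid.powers (φ₁ (ι c))) B').mp h12
    dsimp only at hm
    obtain ⟨x, hx⟩ := (hrange (ι c ^ m * a)).mp (by
      rw [map_mul, map_mul, map_pow, map_pow, hm, hc])
    refine ⟨⟨x, ⟨c ^ (m + n), m + n, rfl⟩⟩, hι ?_⟩
    show ι' (z * algebraMap C C' (c ^ (m + n))) = ι' (algebraMap C C' x)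
    rw [map_mul, hCA, hCA, hx, map_mul (algebraMap A A'), ← ha, map_pow, pow_add, map_mul, map_pow]
    simp only [map_pow]
    ring
  · have hA := congrArg ι' hxy
    rw [hCA, hCA] at hA
    obtain ⟨⟨_, m, rfl⟩, hm⟩ := (IsLocalization.eq_iff_exists (Submonoid.powers (ι c)) A').mp hA
    refine ⟨⟨c ^ m, m, rfl⟩, h0 ?_⟩
    dsimp only at hm ⊢
    rw [map_mul, map_mul, map_pow]
    exact hm

/-- Sections of an equalizer over a localization. -/
theorem secLoc {A A' B B' C C' : Type u} [CommRing A] [CommRing A'] [CommRing B]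
    [CommRing B'] [CommRing C] [CommRing C'] [Algebra A A'] [Algebra B B'] [Algebra C C']
    (φ₁ φ₂ : A →+* B) (φ₁' φ₂' : A' →+* B') (ι : C →+* A) (ι' : C' →+* A') (c : C)
    [IsLocalization.Away c C'] [IsLocalization.Away (ι c) A'] [IsLocalization.Away (φ₁ (ι c)) B']
    (h0 : Function.Injective ι)
    (hCA : ∀ x, ι' (algebraMap C C' x) = algebraMap A A' (ι x))
    (h₁ : ∀ a, φ₁' (algebraMap A A' a) = algebraMap B B' (φ₁ a))
    (h₂ : ∀ a, φ₂' (algebraMap A A' a) = algebraMap B B' (φ₂ a))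
    (hrange : ∀ a, φ₁ a = φ₂ a ↔ ∃ x, ι x = a) :
    Function.Injective ι' ∧ ∀ a, φ₁' a = φ₂' a → ∃ x, ι' x = a := by
  have hc : φ₁ (ι c) = φ₂ (ι c) := (hrange _).mpr ⟨c, rfl⟩
  refine ⟨(injective_iff_map_eq_zero ι').mpr fun z hz => ?_, fun a ha => ?_⟩
  · obtain ⟨⟨x, ⟨_, n, rfl⟩⟩, hx⟩ := IsLocalization.surj (Submonoid.powers c) z
    dsimp only at hx
    have : algebraMap A A' (ι x) = algebraMap A A' 0 := by
      rw [← hCA, ← hx, map_mul, hz, zero_mul, map_zero]
    obtain ⟨⟨_, m, rfl⟩, hm⟩ := (IsLocalization.eq_iff_exists (Submonoid.powers (ι c)) A').mp this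
    dsimp only at hm
    have hx0 : algebraMap C C' x = algebraMap C C' 0 :=
      (IsLocalization.eq_iff_exists (Submonoid.powers c) C').mpr ⟨⟨c ^ m, m, rfl⟩, h0 (by
        simp only [map_mul, map_pow, map_zero] at hm ⊢
        exact hm)⟩
    rw [← hx, map_zero] at hx0
    exact (IsLocalization.map_units C' (⟨c ^ n, n, rfl⟩ : Submonoid.powers c)).mul_left_eq_zero.mp hx0
  · obtain ⟨⟨a₀, ⟨_, n, rfl⟩⟩, ha₀⟩ := IsLocalization.surj (Submonoid.powers (ι c)) a
    dsimp only at ha₀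
    have h12 : algebraMap B B' (φ₁ a₀) = algebraMap B B' (φ₂ a₀) := by
      rw [← h₁, ← h₂, ← ha₀, map_mul, map_mul, ha, h₁, h₂]
      simp only [map_pow, hc]
    obtain ⟨⟨_, m, rfl⟩, hm⟩ := (IsLocalization.eq_iff_exists (Submonoid.powers (φ₁ (ι c))) B').mp h12
    dsimp only at hm
    obtain ⟨x, hx⟩ := (hrange (ι c ^ m * a₀)).mp (by
      rw [map_mul, map_mul, map_pow, map_pow, hm, hc])
    refine ⟨IsLocalization.mk' C' x (⟨c ^ (m + n), m + n, rfl⟩ : Submonoid.powers c), ?_⟩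
    have hu : IsUnit (algebraMap A A' (ι c ^ (m + n))) :=
      IsLocalization.map_units A' (⟨_, m + n, rfl⟩ : Submonoid.powers (ι c))
    refine hu.mul_right_cancel ?_
    rw [← map_pow ι, ← hCA, ← map_mul ι', IsLocalization.mk'_spec, hCA, hx, hCA, map_pow ι, map_mul, ← ha₀,
      pow_add, map_mul]
    ring

variable {S : TopCat.{u}} {P Q : TopCat.Presheaf CommRingCat.{u} S} (a b : P ⟶ Q)

/-- The sectionwise equalizer. -/
def eqPresheaf : TopCat.Presheaf CommRingCat.{u} S where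
  obj U := CommRingCat.of (RingHom.eqLocus (a.app U).hom (b.app U).hom)
  map {U V} i := CommRingCat.ofHom (RingHom.codRestrict ((P.map i).hom.comp (Subring.subtype _)) _ (fun x => by
    show (a.app V).hom ((P.map i).hom x.1) = (b.app V).hom ((P.map i).hom x.1)
    rw [← CommRingCat.comp_apply, ← CommRingCat.comp_apply, a.naturality, b.naturality]
    exact congrArg (Q.map i).hom x.2))
  map_id U := CommRingCat.hom_ext (RingHom.ext fun x => Subtype.ext (by
    show (P.map (𝟙 U)).hom x.1 = x.1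
    rw [CategoryTheory.Functor.map_id]
    rfl))
  map_comp i j := CommRingCat.hom_ext (RingHom.ext fun x => Subtype.ext (by
    show (P.map (i ≫ j)).hom x.1 = (P.map j).hom ((P.map i).hom x.1)
    rw [CategoryTheory.Functor.map_comp]
    rfl))

/-- The inclusion. -/
def eqι : eqPresheaf a b ⟶ P where
  app U := CommRingCat.ofHom (Subring.subtype _)

theorem eqι_comp : eqι a b ≫ a = eqι a b ≫ b :=
  NatTrans.ext (funext fun _ => CommRingCat.hom_ext (RingHom.ext fun x => x.2))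

theorem eqι_injective (U : (Opens S)ᵒᵖ) : Function.Injective ((eqι a b).app U).hom :=
  Subtype.val_injective

theorem eqι_range (U : (Opens S)ᵒᵖ) (x : P.obj U) :
    (a.app U).hom x = (b.app U).hom x ↔ ∃ y, ((eqι a b).app U).hom y = x :=
  ⟨fun h => ⟨⟨x, h⟩, rfl⟩, fun ⟨y, hy⟩ => hy ▸ y.2⟩

theorem isSheaf_eqPresheaf (hP : P.IsSheaf) (hQ : Q.IsSheaf) : (eqPresheaf a b).IsSheaf := by
  rw [TopCat.Presheaf.isSheaf_iff_isSheafUniqueGluing]
  intro ι U sf hsf
  obtain ⟨s, hs, hu⟩ := TopCat.Sheaf.existsUnique_gluing ⟨P, hP⟩ U (fun i => (sf i).1)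
    (fun i j => congrArg Subtype.val (hsf i j))
  have hmem : (a.app _).hom s = (b.app _).hom s := by
    refine TopCat.Sheaf.eq_of_locally_eq (F := ⟨Q, hQ⟩) U _ _ fun i => ?_
    show (Q.map _).hom _ = (Q.map _).hom _
    rw [← CommRingCat.comp_apply, ← CommRingCat.comp_apply, ← a.naturality, ← b.naturality,
      CommRingCat.comp_apply, CommRingCat.comp_apply]
    have h : (P.map (Opens.leSupr U i).op).hom s = (sf i).1 := hs i
    rw [h]
    exact (sf i).2
  exact ⟨⟨s, hmem⟩, fun i => Subtype.ext (hs i), fun t ht => Subtype.ext (hu t.1 fun i => congrArg Subtype.val (ht i))⟩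

section Alg

variable {S X R : Scheme.{u}} (f : X ⟶ S) (g : R ⟶ S) [IsAffineHom f] [IsAffineHom g]
  (p₁ p₂ : R ⟶ X) (hp₁ : p₁ ≫ f = g) (hp₂ : p₂ ≫ f = g)

theorem str_mem (U : S.Opens) (r : Γ(S, U)) :
    ((AffAlg.algHom f g p₁ hp₁).app (op U)).hom (f.app U r) =
      ((AffAlg.algHom f g p₂ hp₂).app (op U)).hom (f.app U r) := by
  have h1 := NatTrans.congr_app (AffAlg.algHom_comm f g p₁ hp₁) (op U)
  have h2 := NatTrans.congr_app (AffAlg.algHom_comm f g p₂ hp₂) (op U)
  exact congrArg (fun m => m.hom r) (h1.trans h2.symm)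

/-- The structure map of the equalizer. -/
def eqStr : S.presheaf ⟶ eqPresheaf (AffAlg.algHom f g p₁ hp₁) (AffAlg.algHom f g p₂ hp₂) where
  app U := CommRingCat.ofHom (RingHom.codRestrict (f.c.app U).hom _ (str_mem f g p₁ p₂ hp₁ hp₂ U.unop))
  naturality U V i := CommRingCat.hom_ext (RingHom.ext fun x => Subtype.ext
    (congrArg (fun m => m.hom x) (f.c.naturality i)))

theorem isQC_eq : RelSpec.IsQC (eqPresheaf (AffAlg.algHom f g p₁ hp₁) (AffAlg.algHom f g p₂ hp₂))
    (eqStr f g p₁ p₂ hp₁ hp₂) := by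
  intro U hU r
  let a := AffAlg.algHom f g p₁ hp₁
  let b := AffAlg.algHom f g p₂ hp₂
  let i := (homOfLE (S.basicOpen_le r)).op
  letI := ((eqPresheaf a b).map i).hom.toAlgebra
  letI : Algebra ((AffAlg.alg f).obj (op U))
    ((AffAlg.alg f).obj (op (S.basicOpen r))) :=
      ((AffAlg.alg f).map i).hom.toAlgebra
  letI : Algebra ((AffAlg.alg g).obj (op U))
    ((AffAlg.alg g).obj (op (S.basicOpen r))) :=
      ((AffAlg.alg g).map i).hom.toAlgebra
  have hB : (a.app (op U)).hom (f.app U r) = g.app U r :=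
    congrArg (fun m => m.hom r) (NatTrans.congr_app (AffAlg.algHom_comm f g p₁ hp₁) (op U))
  haveI : IsLocalization.Away (((eqι a b).app (op U)).hom ((eqStr f g p₁ p₂ hp₁ hp₂).app (op U) r))
      ((AffAlg.alg f).obj (op (S.basicOpen r))) :=
    (RelSpec.QCAlg.directImage f).isQC U hU r
  haveI : IsLocalization.Away ((a.app (op U)).hom
      (((eqι a b).app (op U)).hom ((eqStr f g p₁ p₂ hp₁ hp₂).app (op U) r)))
      ((AffAlg.alg g).obj (op (S.basicOpen r))) := by
    show IsLocalization.Away ((a.app (op U)).hom (f.app U r)) _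
    rw [hB]
    exact (RelSpec.QCAlg.directImage g).isQC U hU r
  exact isLocalization_eqLocus (a.app (op U)).hom (b.app (op U)).hom (a.app (op (S.basicOpen r))).hom
    (b.app (op (S.basicOpen r))).hom ((eqι a b).app (op U)).hom ((eqι a b).app (op (S.basicOpen r))).hom _
    (eqι_injective a b _) (eqι_injective a b _) (fun x => rfl)
    (fun x => congrArg (fun m => m.hom x) (a.naturality i))
    (fun x => congrArg (fun m => m.hom x) (b.naturality i))
    (eqι_range a b _) (eqι_range a b _)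

/-- The algebra of functions invariant under the two maps. -/
def eqAlg : RelSpec.QCAlg S where
  presheaf := eqPresheaf (AffAlg.algHom f g p₁ hp₁) (AffAlg.algHom f g p₂ hp₂)
  isSheaf := isSheaf_eqPresheaf _ _ (RelSpec.QCAlg.directImage f).isSheaf (RelSpec.QCAlg.directImage g).isSheaf
  str := eqStr f g p₁ p₂ hp₁ hp₂
  isQC := isQC_eq f g p₁ p₂ hp₁ hp₂

theorem eqStr_ι : (eqAlg f g p₁ p₂ hp₁ hp₂).str ≫ eqι _ _ = f.c := rfl

end Alg

end Groth.Agent.IntCoeqLib
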