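import Groth.Agent.IntCoeqLib.Algebra
import Groth.Agent.IntCoeqLib.Ringed
import Groth.Agent.IntCoeqLib.Sheaf
import Groth.Agent.RelSpecLib.Basic
import Mathlib.AlgebraicGeometry.Morphisms.Integral

/-!
# The coequalizer of an integral equivalence relation with finite fibres
-/

set_option autoImplicit false
set_option backward.isDefEq.respectTransparency false

universe u

open CategoryTheory CategoryTheory.Limits AlgebraicGeometry TopologicalSpace Opposite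

noncomputable section

namespace Groth.Agent.IntCoeqLib

/-- Rings of functions over an affine open: the three facts from which everything follows. -/
theorem secOK_affine {R X Y : Scheme.{u}} {p₁ p₂ : R ⟶ X} {q : X ⟶ Y} (w : p₁ ≫ q = p₂ ≫ q)
    [IsAffineHom q] [IsAffineHom (p₁ ≫ q)] {W : Y.Opens} (hW : IsAffineOpen W) (hOK : SecOK w W)
    (c : Γ(Y, W)) : SecOK w (Y.basicOpen c) := by
  let i := (homOfLE (Y.basicOpen_le c)).op
  let h := p₁ ≫ q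
  letI : Algebra Γ(Y, W) Γ(Y, Y.basicOpen c) := (Y.presheaf.map i).hom.toAlgebra
  letI : Algebra Γ(X, q ⁻¹ᵁ W) Γ(X, q ⁻¹ᵁ Y.basicOpen c) :=
    ((q.base _* X.presheaf).map i).hom.toAlgebra
  letI : Algebra Γ(R, h ⁻¹ᵁ W) Γ(R, h ⁻¹ᵁ Y.basicOpen c) :=
    ((h.base _* R.presheaf).map i).hom.toAlgebra
  haveI : IsLocalization.Away c Γ(Y, Y.basicOpen c) := (RelSpec.QCAlg.unit Y).isQC W hW c
  haveI : IsLocalization.Away ((q.app W).hom c) Γ(X, q ⁻¹ᵁ Y.basicOpen c) :=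
    RelSpec.QCAlg.isQC_pushforward q W hW c
  haveI : IsLocalization.Away ((p₁.appLE (q ⁻¹ᵁ W) (h ⁻¹ᵁ W) le_rfl).hom ((q.app W).hom c))
      Γ(R, h ⁻¹ᵁ Y.basicOpen c) := by
    have e : (p₁.appLE (q ⁻¹ᵁ W) (h ⁻¹ᵁ W) le_rfl).hom ((q.app W).hom c) = (h.app W).hom c := by
      show (q.app W ≫ p₁.appLE (q ⁻¹ᵁ W) (h ⁻¹ᵁ W) le_rfl).hom c = _
      simp [h, Scheme.Hom.appLE]
    rw [e]
    exact RelSpec.QCAlg.isQC_pushforward h W hW c
  have hnat : ∀ (p : R ⟶ X) (l : ∀ V : Y.Opens, h ⁻¹ᵁ V ≤ p ⁻¹ᵁ (q ⁻¹ᵁ V)) (a : Γ(X, q ⁻¹ᵁ W)),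
      p.appLE (q ⁻¹ᵁ Y.basicOpen c) (h ⁻¹ᵁ Y.basicOpen c) (l _)
        (X.presheaf.map (homOfLE (q.preimage_mono (Y.basicOpen_le c))).op a) =
      R.presheaf.map (homOfLE (h.preimage_mono (Y.basicOpen_le c))).op
        (p.appLE (q ⁻¹ᵁ W) (h ⁻¹ᵁ W) (l _) a) := by
    intro p l a
    rw [← CommRingCat.comp_apply, ← CommRingCat.comp_apply, Scheme.Hom.map_appLE, Scheme.Hom.appLE_map]
  have hbal : ∀ x : Γ(Y, W), Balanced w W (q.app W x) := by
    intro x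
    unfold Balanced
    rw [← CommRingCat.comp_apply, ← CommRingCat.comp_apply, Scheme.Hom.app_eq_appLE,
      Scheme.Hom.appLE_comp_appLE, Scheme.Hom.appLE_comp_appLE]
    congr 3
  exact secLoc (p₁.appLE (q ⁻¹ᵁ W) (h ⁻¹ᵁ W) le_rfl).hom (p₂.appLE (q ⁻¹ᵁ W) (h ⁻¹ᵁ W) (trace₂ w W)).hom
    (p₁.appLE (q ⁻¹ᵁ Y.basicOpen c) (h ⁻¹ᵁ Y.basicOpen c) le_rfl).hom
    (p₂.appLE (q ⁻¹ᵁ Y.basicOpen c) (h ⁻¹ᵁ Y.basicOpen c) (trace₂ w _)).hom
    (q.app W).hom (q.app (Y.basicOpen c)).hom c hOK.1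
    (fun x => app_res (Y.basicOpen_le c) x)
    (hnat p₁ fun _ => le_rfl) (hnat p₂ fun V => trace₂ w V)
    (fun a => ⟨hOK.2 a, fun ⟨x, hx⟩ => hx ▸ hbal x⟩)

variable {S X R : Scheme.{u}}

/-- Transfer of sections over preimages. -/
theorem secOK_preimage {Y : Scheme.{u}} {p₁ p₂ : R ⟶ X} {q : X ⟶ Y} (π : Y ⟶ S) (f : X ⟶ S) (g : R ⟶ S)
    (hq : q ≫ π = f) (hp₁ : p₁ ≫ f = g) (hp₂ : p₂ ≫ f = g) (w : p₁ ≫ q = p₂ ≫ q) (U : S.Opens)
    (hinj : Function.Injective (q.appLE (π ⁻¹ᵁ U) (f ⁻¹ᵁ U) (by rw [← hq]; exact le_rfl)))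
    (hsurj : ∀ a : Γ(X, f ⁻¹ᵁ U),
      p₁.appLE (f ⁻¹ᵁ U) (g ⁻¹ᵁ U) (by rw [← hp₁]; exact le_rfl) a =
        p₂.appLE (f ⁻¹ᵁ U) (g ⁻¹ᵁ U) (by rw [← hp₂]; exact le_rfl) a →
      ∃ b, q.appLE (π ⁻¹ᵁ U) (f ⁻¹ᵁ U) (by rw [← hq]; exact le_rfl) b = a) :
    SecOK w (π ⁻¹ᵁ U) := by
  subst hq
  subst hp₁
  refine ⟨?_, fun a ha => ?_⟩
  · rw [Scheme.Hom.app_eq_appLE]
    exact hinj
  · rw [Scheme.Hom.app_eq_appLE]
    exact hsurj a ha

variable (f : X ⟶ S) (g : R ⟶ S) [IsIntegralHom f] [IsIntegralHom g]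
  (p₁ p₂ : R ⟶ X) (hp₁ : p₁ ≫ f = g) (hp₂ : p₂ ≫ f = g)

local notation "𝐅" => Scheme.forgetToLocallyRingedSpace ⋙ LocallyRingedSpace.forgetToSheafedSpace

include hp₁ hp₂ in
theorem exists_coequalizer (hfin : ∀ s : S, (f ⁻¹' {s}).Finite)
    (heqv : Equivalence (fun x x' : X => ∃ r : R, p₁ r = x ∧ p₂ r = x')) :
    ∃ (Y : Scheme.{u}) (q : X ⟶ Y) (h : Y ⟶ S)
      (w : (𝐅).map p₁ ≫ (𝐅).map q = (𝐅).map p₂ ≫ (𝐅).map q),
      q ≫ h = f ∧ IsIntegralHom h ∧ IsIntegralHom q ∧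
      Nonempty (IsColimit (Cofork.ofπ ((𝐅).map q) w)) := by
  let C := eqAlg f g p₁ p₂ hp₁ hp₂
  let ω : C.presheaf ⟶ f.base _* X.presheaf := eqι _ _
  have hω : C.str ≫ ω = f.c := eqStr_ι f g p₁ p₂ hp₁ hp₂
  let q := RelSpecLib.lift C f ω
  have hq : q ≫ C.π = f := RelSpecLib.lift_π C f ω hω
  have w : p₁ ≫ q = p₂ ≫ q := by
    refine RelSpecLib.ext_over C g (by rw [Category.assoc, hq, hp₁]) (by rw [Category.assoc, hq, hp₂]) ?_
    rw [RelSpecLib.algMap_comp C f g q hq p₁ hp₁, RelSpecLib.algMap_comp C f g q hq p₂ hp₂,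
      RelSpecLib.algMap_lift C f ω hω]
    exact eqι_comp _ _
  haveI := SpecQCAlg.isIso_gammaMap C
  have hiso : ∀ (U : S.Opens) (hU : IsAffineOpen U), Function.Bijective (C.gammaAff U hU) := by
    intro U hU
    rw [← C.gammaMap_app U hU]
    exact ConcreteCategory.bijective_of_isIso _
  have hψ : ∀ (U : S.Opens) (hU : IsAffineOpen U) (b : Γ(C.spec, C.π ⁻¹ᵁ U)),
      q.appLE (C.π ⁻¹ᵁ U) (f ⁻¹ᵁ U) (RelSpecLib.preimage_le C f hq U) b =
        ((eqι _ _).app (op U)).hom (C.gammaAff U hU b) := by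
    intro U hU b
    rw [← RelSpecLib.gammaAff_algMap C f q hq U hU, RelSpecLib.algMap_lift C f ω hω]
    rfl
  have hφ : ∀ (p : R ⟶ X) (hp : p ≫ f = g) (U : S.Opens) (a : Γ(X, f ⁻¹ᵁ U)),
      ((AffAlg.algHom f g p hp).app (op U)).hom a =
        p.appLE (f ⁻¹ᵁ U) (g ⁻¹ᵁ U) (by rw [← hp]; exact le_rfl) a := fun p hp U a => by
    rw [RelSpecLib.algHom_app_gen f g p hp U]
    rfl
  -- integrality
  haveI hπint : IsIntegralHom C.π := by
    refine ⟨fun U hU x => ?_⟩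
    have hstr : ((C.str.app (op U)).hom).IsIntegralElem (C.gammaAff U hU x) := by
      obtain ⟨P, hPm, hP⟩ := (Scheme.Hom.isIntegral_app f U hU) (((eqι _ _).app (op U)).hom (C.gammaAff U hU x))
      refine ⟨P, hPm, eqι_injective (AffAlg.algHom f g p₁ hp₁) (AffAlg.algHom f g p₂ hp₂) _ ?_⟩
      refine (Polynomial.hom_eval₂ P _ _ _).trans (Eq.trans ?_ (map_zero _).symm)
      exact hP
    obtain ⟨P, hPm, hP⟩ := hstr
    refine ⟨P, hPm, (hiso U hU).1 ?_⟩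
    refine (Polynomial.hom_eval₂ P (C.π.app U).hom (C.gammaAff U hU).hom x).trans (Eq.trans ?_ (map_zero _).symm)
    rw [← C.π_app_gammaAff U hU] at hP
    exact hP
  haveI hqint : IsIntegralHom q := by
    haveI : IsIntegralHom (q ≫ C.π) := by rw [hq]; infer_instance
    exact IsIntegralHom.of_comp q C.π
  haveI : IsIntegralHom (p₁ ≫ q) := by
    haveI : IsIntegralHom ((p₁ ≫ q) ≫ C.π) := by rw [Category.assoc, hq, hp₁]; infer_instance
    exact IsIntegralHom.of_comp (p₁ ≫ q) C.π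
  -- sections
  have hOKaff : ∀ (U : S.Opens), IsAffineOpen U → SecOK w (C.π ⁻¹ᵁ U) := by
    intro U hU
    refine secOK_preimage C.π f g hq hp₁ hp₂ w U ?_ ?_
    · intro b b' hb
      rw [hψ U hU, hψ U hU] at hb
      exact (hiso U hU).1 (eqι_injective _ _ _ hb)
    · intro a ha
      obtain ⟨c, hc⟩ := (eqι_range (AffAlg.algHom f g p₁ hp₁) (AffAlg.algHom f g p₂ hp₂) (op U) a).mp
        (by rw [hφ p₁ hp₁ U a, hφ p₂ hp₂ U a]; exact ha)
      obtain ⟨b, rfl⟩ := (hiso U hU).2 c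
      exact ⟨b, (hψ U hU b).trans hc⟩
  have hsec : ∀ V : C.spec.Opens, SecOK w V := by
    refine secOK_of_basis w {W | ∃ (U : S.Opens) (_ : IsAffineOpen U) (c : Γ(C.spec, C.π ⁻¹ᵁ U)),
      W = C.spec.basicOpen c} ?_ ?_
    · intro V y hy
      obtain ⟨U, hU, hyU, -⟩ := exists_isAffineOpen_mem_and_subset (U := (⊤ : S.Opens)) (x := C.π y) trivial
      obtain ⟨c, hc, hyc⟩ := (hU.preimage C.π).exists_basicOpen_le (V := V) ⟨y, hy⟩ hyU
      exact ⟨_, ⟨U, hU, c, rfl⟩, hyc, hc⟩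
    · rintro W ⟨U, hU, c, rfl⟩
      exact secOK_affine w (hU.preimage C.π) (hOKaff U hU) c
  -- points
  have hfromSpec : ∀ (U : S.Opens) (hU : IsAffineOpen U) (a : Spec Γ(X, f ⁻¹ᵁ U)),
      q ((hU.preimage f).fromSpec a) = (hU.preimage C.π).fromSpec
        (Spec.map (q.appLE (C.π ⁻¹ᵁ U) (f ⁻¹ᵁ U) (RelSpecLib.preimage_le C f hq U)) a) := by
    intro U hU a
    rw [← Scheme.Hom.comp_apply, ← Scheme.Hom.comp_apply,
      IsAffineOpen.SpecMap_appLE_fromSpec q (hU.preimage C.π) (hU.preimage f)]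
  have hsurj : Function.Surjective q := by
    intro y
    obtain ⟨U, hU, hyU, -⟩ := exists_isAffineOpen_mem_and_subset (U := (⊤ : S.Opens)) (x := C.π y) trivial
    obtain ⟨c, rfl⟩ : y ∈ Set.range (hU.preimage C.π).fromSpec := by
      rw [IsAffineOpen.range_fromSpec]; exact hyU
    have hint : (q.appLE (C.π ⁻¹ᵁ U) (f ⁻¹ᵁ U) (RelSpecLib.preimage_le C f hq U)).hom.IsIntegral := by
      refine RingHom.IsIntegral.tower_top (C.π.app U).hom _ ?_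
      rw [← CommRingCat.hom_comp, Scheme.Hom.app_eq_appLE, Scheme.Hom.appLE_comp_appLE]
      convert Scheme.Hom.isIntegral_app f U hU using 2
      rw [Scheme.Hom.app_eq_appLE]
      congr 1
    obtain ⟨a, ha⟩ := hint.comap_surjective (fun b b' hb => (hiso U hU).1 (eqι_injective _ _ _
      ((hψ U hU b).symm.trans (hb.trans (hψ U hU b'))))) c
    exact ⟨(hU.preimage f).fromSpec a, (hfromSpec U hU a).trans (congrArg _ ha)⟩
  have hquot : Topology.IsQuotientMap q :=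
    (Scheme.Hom.isClosedMap q).isQuotientMap q.continuous hsurj
  have hrel : ∀ x x' : X, q x = q x' → ∃ r : R, p₁ r = x ∧ p₂ r = x' := by
    intro x x' hxx
    obtain ⟨U, hU, hsU, -⟩ := exists_isAffineOpen_mem_and_subset (U := (⊤ : S.Opens)) (x := f x) trivial
    have hfx : f x' = f x := by
      have := congrArg (fun y => C.π y) hxx
      simp only [← Scheme.Hom.comp_apply, hq] at this
      exact this.symm
    obtain ⟨a, rfl⟩ : x ∈ Set.range (hU.preimage f).fromSpec := by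
      rw [IsAffineOpen.range_fromSpec]; exact hsU
    obtain ⟨a', rfl⟩ : x' ∈ Set.range (hU.preimage f).fromSpec := by
      rw [IsAffineOpen.range_fromSpec]; show f x' ∈ U; rw [hfx]; exact hsU
    letI : Algebra Γ(S, U) Γ(X, f ⁻¹ᵁ U) := (f.app U).hom.toAlgebra
    letI : Algebra Γ(S, U) Γ(R, g ⁻¹ᵁ U) := (g.app U).hom.toAlgebra
    haveI : Algebra.IsIntegral Γ(S, U) Γ(X, f ⁻¹ᵁ U) := ⟨Scheme.Hom.isIntegral_app f U hU⟩
    haveI : Algebra.IsIntegral Γ(S, U) Γ(R, g ⁻¹ᵁ U) := ⟨Scheme.Hom.isIntegral_app g U hU⟩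
    have hle : ∀ (p : R ⟶ X), p ≫ f = g → g ⁻¹ᵁ U ≤ p ⁻¹ᵁ (f ⁻¹ᵁ U) := fun p hp => by
      rw [← hp]; exact le_rfl
    let φ : ∀ (p : R ⟶ X), p ≫ f = g → (Γ(X, f ⁻¹ᵁ U) →ₐ[Γ(S, U)] Γ(R, g ⁻¹ᵁ U)) := fun p hp =>
      { (p.appLE (f ⁻¹ᵁ U) (g ⁻¹ᵁ U) (hle p hp)).hom with
        commutes' := fun r => by
          show (f.app U ≫ p.appLE (f ⁻¹ᵁ U) (g ⁻¹ᵁ U) (hle p hp)).hom r = (g.app U).hom r
          subst hp
          rw [Scheme.Hom.app_eq_appLE, Scheme.Hom.appLE_comp_appLE, Scheme.Hom.app_eq_appLE] }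
    have hpt : ∀ (p : R ⟶ X) (hp : p ≫ f = g) (r : Spec Γ(R, g ⁻¹ᵁ U)),
        p ((hU.preimage g).fromSpec r) =
          (hU.preimage f).fromSpec (PrimeSpectrum.comap (φ p hp).toRingHom r) := by
      intro p hp r
      rw [← Scheme.Hom.comp_apply,
        ← IsAffineOpen.SpecMap_appLE_fromSpec p (hU.preimage f) (hU.preimage g) (hle p hp),
        Scheme.Hom.comp_apply]
      rfl
    have finj := (hU.preimage f).isOpenImmersion_fromSpec.base_open.injective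
    have key : ∀ b b' : PrimeSpectrum Γ(X, f ⁻¹ᵁ U), Rel (φ p₁ hp₁).toRingHom (φ p₂ hp₂).toRingHom b b' ↔
        ∃ r : R, p₁ r = (hU.preimage f).fromSpec b ∧ p₂ r = (hU.preimage f).fromSpec b' := by
      intro b b'
      refine ⟨fun ⟨r, h1, h2⟩ => ⟨(hU.preimage g).fromSpec r, by rw [hpt p₁ hp₁, h1], by rw [hpt p₂ hp₂, h2]⟩,
        fun ⟨r, h1, h2⟩ => ?_⟩
      obtain ⟨r', rfl⟩ : r ∈ Set.range (hU.preimage g).fromSpec := by
        rw [IsAffineOpen.range_fromSpec]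
        show g r ∈ U
        rw [← hp₁, Scheme.Hom.comp_apply, h1]
        have := (hU.preimage f).range_fromSpec ▸ Set.mem_range_self (f := (hU.preimage f).fromSpec) b
        exact this
      exact ⟨r', finj ((hpt p₁ hp₁ r').symm.trans h1), finj ((hpt p₂ hp₂ r').symm.trans h2)⟩
    refine (key a a').mp (rel_of_comap_eq (φ p₁ hp₁) (φ p₂ hp₂) ⟨fun b => (key b b).mpr (heqv.refl _),
      fun h => (key _ _).mpr (heqv.symm ((key _ _).mp h)),
      fun h h' => (key _ _).mpr (heqv.trans ((key _ _).mp h) ((key _ _).mp h'))⟩ ?_ a a' ?_)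
    · intro s
      refine ((hfin (hU.fromSpec s)).preimage finj.injOn).subset fun b hb => ?_
      show f ((hU.preimage f).fromSpec b) = hU.fromSpec s
      rw [← Scheme.Hom.comp_apply,
        ← IsAffineOpen.SpecMap_appLE_fromSpec f hU (hU.preimage f) le_rfl, Scheme.Hom.comp_apply,
        ← Scheme.Hom.app_eq_appLE]
      exact congrArg _ hb
    · have h1 : PrimeSpectrum.comap (q.appLE (C.π ⁻¹ᵁ U) (f ⁻¹ᵁ U) (RelSpecLib.preimage_le C f hq U)).hom a =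
          PrimeSpectrum.comap (q.appLE (C.π ⁻¹ᵁ U) (f ⁻¹ᵁ U) (RelSpecLib.preimage_le C f hq U)).hom a' :=
        (hU.preimage C.π).isOpenImmersion_fromSpec.base_open.injective
          ((hfromSpec U hU a).symm.trans (hxx.trans (hfromSpec U hU a')))
      ext ⟨c, hc⟩
      obtain ⟨b, hb⟩ := (hiso U hU).2 ⟨c, ((hφ p₁ hp₁ U c).trans (hc.trans (hφ p₂ hp₂ U c).symm))⟩
      have hb' : q.appLE (C.π ⁻¹ᵁ U) (f ⁻¹ᵁ U) (RelSpecLib.preimage_le C f hq U) b = c := by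
        rw [hψ U hU b, hb]; rfl
      show c ∈ a.asIdeal ↔ c ∈ a'.asIdeal
      rw [← hb']
      exact SetLike.ext_iff.mp (congrArg PrimeSpectrum.asIdeal h1) b
  refine ⟨C.spec, q, C.π, by rw [← Functor.map_comp, ← Functor.map_comp, w], hq, hπint, hqint, ?_⟩
  exact isColimit_cofork w hquot hrel hsec _

end Groth.Agent.IntCoeqLib
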